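import Mathlib
import Groth.Prelude.Def_CInt
import Groth.Agent.Lib.Helper2.SchDom.FlatDense
import Groth.Agent.Lib.Helper6.SchDense.Basic

set_option autoImplicit false
set_option backward.isDefEq.respectTransparency.types false
set_option synthInstance.maxHeartbeats 400000
set_option maxHeartbeats 4000000
set_option linter.style.haveILetI false
set_option linter.unusedSectionVars false
set_option linter.unusedVariables false

/-!
# Descent of the domain of definition of a pseudo-morphism along a flat morphism locally of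
finite presentation
-/

open CategoryTheory CategoryTheory.Limits AlgebraicGeometry TopologicalSpace

namespace Groth.Agent.Helper2.Rat

universe u

/-- on morphisms landing in `f⁻¹ U ∩ V'`, the morphism `v'` is given by `h` -/
theorem comp_eq_of_lift {X X' Y : Scheme.{u}} (f : X' ⟶ X) (U : X.Opens)
    (h : (U : Scheme.{u}) ⟶ Y) (V' : X'.Opens) (v' : (V' : Scheme.{u}) ⟶ Y)
    (hv' : X'.homOfLE (inf_le_right : f ⁻¹ᵁ U ⊓ V' ≤ V') ≫ v' =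
      X'.homOfLE (inf_le_left : f ⁻¹ᵁ U ⊓ V' ≤ f ⁻¹ᵁ U) ≫ (f ∣_ U) ≫ h)
    {T : Scheme.{u}} (c : T ⟶ (V' : Scheme.{u})) (cU : T ⟶ (U : Scheme.{u}))
    (hc : cU ≫ U.ι = c ≫ V'.ι ≫ f) : c ≫ v' = cU ≫ h := by
  have hrange : Set.range (c ≫ V'.ι) ⊆ Set.range (f ⁻¹ᵁ U ⊓ V' : X'.Opens).ι := by
    rw [Scheme.Opens.range_ι]
    rintro _ ⟨t, rfl⟩
    constructor
    · show f ((c ≫ V'.ι) t) ∈ U
      have h1 : f ((c ≫ V'.ι) t) = (cU ≫ U.ι) t := by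
        rw [hc]; rfl
      rw [h1]
      exact (cU t).2
    · exact (c t).2
  let c' : T ⟶ ((f ⁻¹ᵁ U ⊓ V' : X'.Opens) : Scheme.{u}) :=
    IsOpenImmersion.lift (f ⁻¹ᵁ U ⊓ V' : X'.Opens).ι (c ≫ V'.ι) hrange
  have hc' : c' ≫ (f ⁻¹ᵁ U ⊓ V' : X'.Opens).ι = c ≫ V'.ι := IsOpenImmersion.lift_fac _ _ _
  have e1 : c' ≫ X'.homOfLE (inf_le_right : f ⁻¹ᵁ U ⊓ V' ≤ V') = c := by
    rw [← cancel_mono V'.ι, Category.assoc, Scheme.homOfLE_ι, hc']
  have e2 : c' ≫ X'.homOfLE (inf_le_left : f ⁻¹ᵁ U ⊓ V' ≤ f ⁻¹ᵁ U) ≫ (f ∣_ U) = cU := by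
    rw [← cancel_mono U.ι, Category.assoc, Category.assoc, morphismRestrict_ι,
      Scheme.homOfLE_ι_assoc, ← Category.assoc, hc', hc, Category.assoc]
  calc c ≫ v' = c' ≫ X'.homOfLE (inf_le_right : f ⁻¹ᵁ U ⊓ V' ≤ V') ≫ v' := by
        rw [← Category.assoc, e1]
    _ = c' ≫ X'.homOfLE (inf_le_left : f ⁻¹ᵁ U ⊓ V' ≤ f ⁻¹ᵁ U) ≫ (f ∣_ U) ≫ h := by rw [hv']
    _ = cU ≫ h := by rw [← e2]; simp only [Category.assoc]

theorem main3835 {X X' Y S : Scheme.{u}} (pX : X ⟶ S) (pY : Y ⟶ S)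
    [IsSeparated pY] (U : X.Opens) (hU : CInt.IsSchematicallyDense U) (h : (U : Scheme.{u}) ⟶ Y)
    (hh : h ≫ pY = U.ι ≫ pX) (f : X' ⟶ X) [Flat f] [LocallyOfFinitePresentation f] (x' : ↥X')
    (V' : X'.Opens) (hx' : x' ∈ V') (v' : (V' : Scheme.{u}) ⟶ Y) (hv'S : v' ≫ pY = V'.ι ≫ f ≫ pX)
    (hv' : X'.homOfLE (inf_le_right : f ⁻¹ᵁ U ⊓ V' ≤ V') ≫ v' =
      X'.homOfLE (inf_le_left : f ⁻¹ᵁ U ⊓ V' ≤ f ⁻¹ᵁ U) ≫ (f ∣_ U) ≫ h) :
    ∃ (V : X.Opens) (v : (V : Scheme.{u}) ⟶ Y), f x' ∈ V ∧ v ≫ pY = V.ι ≫ pX ∧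
      X.homOfLE (inf_le_right : U ⊓ V ≤ V) ≫ v = X.homOfLE (inf_le_left : U ⊓ V ≤ U) ≫ h := by
  -- the open image of `V'`
  let V : X.Opens := ⟨f '' (V' : Set X'), f.isOpenMap _ V'.isOpen⟩
  have hV'V : V' ≤ f ⁻¹ᵁ V := fun y hy => ⟨y, hy, rfl⟩
  let g : (V' : Scheme.{u}) ⟶ (V : Scheme.{u}) := f.resLE V V' hV'V
  have hg : g ≫ V.ι = V'.ι ≫ f := Scheme.Hom.resLE_comp_ι f hV'V
  haveI : Flat g := inferInstance
  haveI : LocallyOfFinitePresentation g := inferInstance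
  haveI : Surjective g := by
    refine ⟨fun y => ?_⟩
    obtain ⟨z, hz, hzy⟩ := y.2
    refine ⟨⟨z, hz⟩, Subtype.ext ?_⟩
    have h1 : (g ≫ V.ι) ⟨z, hz⟩ = (V'.ι ≫ f) ⟨z, hz⟩ := by rw [hg]
    exact h1.trans hzy
  -- the descent datum
  have hdesc : ∀ {Z : Scheme.{u}} (a b : Z ⟶ (V' : Scheme.{u})), a ≫ g = b ≫ g →
      a ≫ v' = b ≫ v' := by
    intro Z a b hab
    suffices hP : pullback.fst g g ≫ v' = pullback.snd g g ≫ v' by
      calc a ≫ v' = pullback.lift a b hab ≫ pullback.fst g g ≫ v' := by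
            rw [pullback.lift_fst_assoc]
        _ = pullback.lift a b hab ≫ pullback.snd g g ≫ v' := by rw [hP]
        _ = b ≫ v' := by rw [pullback.lift_snd_assoc]
    have hUV : CInt.IsSchematicallyDense (V.ι ⁻¹ᵁ U) := SchDom.main3843 V.ι U hU
    have hW : CInt.IsSchematicallyDense ((pullback.fst g g ≫ g) ⁻¹ᵁ (V.ι ⁻¹ᵁ U)) :=
      SchDom.main3843 (pullback.fst g g ≫ g) (V.ι ⁻¹ᵁ U) hUV
    refine Groth.Agent.Lib.Helper6.SchDense.ext_of_isSeparated hW pY ?_ ?_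
    · rw [Category.assoc, Category.assoc, hv'S, ← Category.assoc V'.ι, ← hg]
      simp only [Category.assoc]
      rw [pullback.condition_assoc]
    · set W : (pullback g g).Opens := (pullback.fst g g ≫ g) ⁻¹ᵁ (V.ι ⁻¹ᵁ U) with hWdef
      have hrange : Set.range (W.ι ≫ pullback.fst g g ≫ g ≫ V.ι) ⊆ Set.range U.ι := by
        rw [Scheme.Opens.range_ι]
        rintro _ ⟨w, rfl⟩
        exact w.2
      let cU : (W : Scheme.{u}) ⟶ (U : Scheme.{u}) :=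
        IsOpenImmersion.lift U.ι (W.ι ≫ pullback.fst g g ≫ g ≫ V.ι) hrange
      have hcU : cU ≫ U.ι = W.ι ≫ pullback.fst g g ≫ g ≫ V.ι := IsOpenImmersion.lift_fac _ _ _
      have e1 := comp_eq_of_lift f U h V' v' hv' (W.ι ≫ pullback.fst g g) cU (by
        rw [hcU, hg]; simp only [Category.assoc])
      have e2 := comp_eq_of_lift f U h V' v' hv' (W.ι ≫ pullback.snd g g) cU (by
        rw [hcU, pullback.condition_assoc, hg]; simp only [Category.assoc])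
      simp only [Category.assoc] at e1 e2
      rw [e1, e2]
  let v : (V : Scheme.{u}) ⟶ Y := EffectiveEpi.desc g v' hdesc
  have hv : g ≫ v = v' := EffectiveEpi.fac g v' hdesc
  refine ⟨V, v, ⟨x', hx', rfl⟩, ?_, ?_⟩
  · rw [← cancel_epi g, ← Category.assoc, hv, hv'S, ← Category.assoc, ← hg, Category.assoc]
  · have hN : f ⁻¹ᵁ U ⊓ V' ≤ f ⁻¹ᵁ (U ⊓ V) := fun y hy => ⟨hy.1, ⟨y, hy.2, rfl⟩⟩
    let r : ((f ⁻¹ᵁ U ⊓ V' : X'.Opens) : Scheme.{u}) ⟶ ((U ⊓ V : X.Opens) : Scheme.{u}) :=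
      f.resLE (U ⊓ V) (f ⁻¹ᵁ U ⊓ V') hN
    have hr : r ≫ (U ⊓ V : X.Opens).ι = (f ⁻¹ᵁ U ⊓ V' : X'.Opens).ι ≫ f :=
      Scheme.Hom.resLE_comp_ι f hN
    haveI : Flat r := inferInstance
    haveI : LocallyOfFinitePresentation r := inferInstance
    haveI : Surjective r := by
      refine ⟨fun y => ?_⟩
      obtain ⟨hyU, z, hz, hzy⟩ := y.2
      have hzU : z ∈ f ⁻¹ᵁ U := by
        show f z ∈ U
        rw [hzy]; exact hyU
      refine ⟨⟨z, hzU, hz⟩, Subtype.ext ?_⟩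
      have h1 : (r ≫ (U ⊓ V : X.Opens).ι) ⟨z, hzU, hz⟩
          = ((f ⁻¹ᵁ U ⊓ V' : X'.Opens).ι ≫ f) ⟨z, hzU, hz⟩ := by rw [hr]
      exact h1.trans hzy
    haveI : Epi r := inferInstance
    rw [← cancel_epi r]
    have e1 : r ≫ X.homOfLE (inf_le_right : U ⊓ V ≤ V)
        = X'.homOfLE (inf_le_right : f ⁻¹ᵁ U ⊓ V' ≤ V') ≫ g := by
      rw [← cancel_mono V.ι, Category.assoc, Category.assoc, Scheme.homOfLE_ι, hr, hg,
        Scheme.homOfLE_ι_assoc]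
    have e2 : r ≫ X.homOfLE (inf_le_left : U ⊓ V ≤ U)
        = X'.homOfLE (inf_le_left : f ⁻¹ᵁ U ⊓ V' ≤ f ⁻¹ᵁ U) ≫ (f ∣_ U) := by
      rw [← cancel_mono U.ι, Category.assoc, Category.assoc, Scheme.homOfLE_ι, hr,
        morphismRestrict_ι, Scheme.homOfLE_ι_assoc]
    rw [← Category.assoc, e1, Category.assoc, hv, hv', ← Category.assoc, ← e2, Category.assoc]

end Groth.Agent.Helper2.Rat
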